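/-
`SU(5,2)`: the element with eigenvalue `l` on the orthogonal of a unit vector, as a product of six transvections.
-/
import Cfsg.Agent.Lib.ThreeTrans.UnitaryClass

set_option autoImplicit false
set_option linter.unusedSectionVars false

namespace CfsgUniqueTT.Unitary.Five

open Matrix CfsgLib CfsgLib.UnitaryTransvection CfsgLib.UnitarySimple

variable {F : Type*} [Field F] [Fintype F] [DecidableEq F] (hF : Fintype.card F = 2 ^ 2)

local notation "h" => Cfsg.hermForm 5 F 2
local notation "σ" => frob hF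
local notation "V" => (Fin 5 → F)

include hF

/-- A primitive cube root of unity. -/
noncomputable def omega : F := (exists_trace_one hF).choose

local notation "ω" => omega hF

theorem omega_frob : σ ω = ω + 1 := by
  have e : σ ω + ω = 1 := (exists_trace_one hF).choose_spec
  linear_combination e - ω * two_zero hF

theorem omega_sq : ω * ω = ω + 1 := by
  rw [← omega_frob hF, frob_apply, pow_two]

theorem omega_ne : ω ≠ 0 := fun e => by
  have := omega_sq hF
  rw [e, mul_zero, zero_add] at this
  exact zero_ne_one this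

theorem omega_ne_one : ω ≠ 1 := fun e => by
  have := omega_sq hF
  rw [e, mul_one, CfsgUniqueTT.Unitary.add_self hF] at this
  exact one_ne_zero this

theorem omega_cube : ω * (ω * ω) = 1 := by
  rw [omega_sq hF, mul_add, omega_sq hF, mul_one]
  linear_combination ω * two_zero hF

/-- The matrix `v ↦ ω v + h(v,w) w`. -/
noncomputable def zmat (w : V) : Matrix (Fin 5) (Fin 5) F := ω • 1 + vecMulVec w (fun i => σ (w i))

theorem zmat_mulVec (w v : V) : zmat hF w *ᵥ v = ω • v + h v w • w := by
  have e : (fun i => σ (w i)) ⬝ᵥ v = h v w := by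
    simp only [dotProduct, Cfsg.hermForm, frob_apply hF, mul_comm]
  ext i
  simp [zmat, add_mulVec, smul_mulVec, vecMulVec_mulVec, e, mul_comm]

theorem zmat_det {w : V} (hw : h w w = 1) : (zmat hF w).det = 1 := by
  have e : zmat hF w = ω • (1 + vecMulVec ((ω * ω) • w) (fun i => σ (w i))) := by
    rw [zmat, smul_add, ← smul_vecMulVec, smul_smul, omega_cube hF, one_smul]
  have e2 : (fun i => σ (w i)) ⬝ᵥ ((ω * ω) • w) = ω * ω := by
    rw [dotProduct_smul, smul_eq_mul]
    have : (fun i => σ (w i)) ⬝ᵥ w = h w w := by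
      simp only [dotProduct, Cfsg.hermForm, frob_apply hF, mul_comm]
    rw [this, hw, mul_one]
  rw [e, det_smul, vecMulVec_eq Unit, det_one_add_replicateCol_mul_replicateRow, e2, Fintype.card_fin]
  linear_combination (ω ^ 4 + ω ^ 2 + ω) * omega_cube hF + omega_sq hF + ω * two_zero hF

/-- The element of `SU(5,2)` attached to a unit vector. -/
noncomputable def Z (w : V) : Cfsg.SU 5 F 2 :=
  if hw : h w w = 1 then mkSU (zmat hF w) (fun u v => by
    rw [zmat_mulVec, zmat_mulVec]
    simp only [h_add_left, h_add_right hF, h_smul_left, h_smul_right hF, hw, h_swap hF, omega_frob hF]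
    linear_combination (h u v) * omega_sq hF + (h u v * ω + h u w * h w v * (1 + ω)) * two_zero hF)
    (zmat_det hF hw) else 1

theorem Z_mulVec {w : V} (hw : h w w = 1) (v : V) : mat (Z hF w) *ᵥ v = ω • v + h v w • w := by
  rw [Z, dif_pos hw]
  exact zmat_mulVec hF w v

theorem Z_smul {w : V} (hw : h w w = 1) {c : F} (hc : c ≠ 0) : Z hF (c • w) = Z hF w := by
  have hcw : h (c • w) (c • w) = 1 := by
    rw [h_smul_left, h_smul_right hF, hw, mul_one, norm_one hF hc]
  refine su_ext fun v => ?_
  rw [Z_mulVec hF hcw, Z_mulVec hF hw, h_smul_right hF, smul_smul, mul_right_comm, norm_fix hF hc, one_mul]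

theorem Z_conj (g : Cfsg.SU 5 F 2) {w : V} (hw : h w w = 1) : g * Z hF w * g⁻¹ = Z hF (mat g *ᵥ w) := by
  have hgw : h (mat g *ᵥ w) (mat g *ᵥ w) = 1 := by rw [su_h, hw]
  refine su_ext fun v => ?_
  rw [mat_mul, mat_mul, ← mulVec_mulVec, ← mulVec_mulVec, Z_mulVec hF hw, Z_mulVec hF hgw, mulVec_add,
    mulVec_smul, mulVec_smul, mat_inv_mulVec]
  congr 2
  rw [← su_h g (mat g⁻¹ *ᵥ v) w, mat_inv_mulVec]

theorem Z_commute {u w : V} (hu : h u u = 1) (hw : h w w = 1) (huw : h u w = 0) :
    Commute (Z hF u) (Z hF w) := by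
  have hwu : h w u = 0 := by rw [← h_swap hF u w, huw, map_zero]
  refine su_ext fun v => ?_
  rw [mat_mul, mat_mul, ← mulVec_mulVec, ← mulVec_mulVec, Z_mulVec hF hu, Z_mulVec hF hw, Z_mulVec hF hu,
    Z_mulVec hF hw]
  simp only [h_add_left, h_smul_left, huw, hwu, mul_zero, add_zero, smul_add, smul_smul]
  abel

/-- Orthonormal families of size less than five extend. -/
theorem exists_unit_perp {k : ℕ} (hk : k < 5) (s : Fin k → V)
    (hs : ∀ i j, h (s i) (s j) = if i = j then 1 else 0) : ∃ r, h r r = 1 ∧ ∀ i, h r (s i) = 0 := by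
  by_contra hcon
  push Not at hcon
  have hz : ∀ r, (∀ i, h r (s i) = 0) → h r r = 0 := fun r a =>
    (fixed hF (h_swap hF r r)).resolve_right fun e => by
      obtain ⟨i, hi⟩ := hcon r e
      exact hi (a i)
  let f : V →ₗ[F] (Fin k → F) :=
    { toFun := fun x i => h x (s i)
      map_add' := fun a b => funext fun i => h_add_left a b (s i)
      map_smul' := fun c a => funext fun i => h_smul_left c a (s i) }
  have hker : LinearMap.ker f ≠ ⊥ := LinearMap.ker_ne_bot_of_finrank_lt (by
    rw [Module.finrank_fin_fun, Module.finrank_fin_fun]; omega)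
  obtain ⟨r₀, hr₀, hr0⟩ := Submodule.exists_mem_ne_zero_of_ne_bot hker
  have er : ∀ i, h r₀ (s i) = 0 := fun i => congrFun hr₀ i
  obtain ⟨y, hy⟩ := exists_dual hF hr0
  have hsum : ∀ (c : Fin k → F) (x : V), h (∑ i, c i • s i) x = ∑ i, c i * h (s i) x := fun c x => by
    simp only [Cfsg.hermForm, Finset.sum_apply, Pi.smul_apply, smul_eq_mul, Finset.sum_mul, Finset.mul_sum]
    rw [Finset.sum_comm]
    exact Finset.sum_congr rfl fun i _ => Finset.sum_congr rfl fun j _ => by ring
  set y' := y + ∑ i, h y (s i) • s i with hy'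
  have y1 : ∀ j, h y' (s j) = 0 := fun j => by
    rw [hy', h_add_left, hsum]
    simp only [hs, mul_ite, mul_one, mul_zero, Finset.sum_ite_eq', Finset.mem_univ, if_true]
    exact CfsgUniqueTT.Unitary.add_self hF _
  have hy1 : h y' r₀ = 1 := by
    rw [hy', h_add_left, hsum, hy]
    have : ∀ i, h (s i) r₀ = 0 := fun i => by rw [← h_swap hF r₀ (s i), er, map_zero]
    simp [this]
  obtain ⟨d, hd⟩ := exists_trace_one hF
  have hy2 : h r₀ y' = 1 := by rw [← h_swap hF, hy1, map_one]
  clear_value y'
  have := hz (d • r₀ + y') fun i => by rw [h_add_left, h_smul_left, er, y1, mul_zero, add_zero]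
  rw [h_add_left, h_smul_left, h_add_right hF, h_add_right hF, h_smul_right hF, h_smul_right hF,
    hz r₀ er, hz y' y1, hy1, hy2] at this
  exact one_ne_zero (α := F) (by linear_combination this - hd)

/-- An orthonormal family of five determines a linear map. -/
theorem ext_frame (f : Fin 5 → V) (hf : ∀ i j, h (f i) (f j) = if i = j then 1 else 0)
    {A B : Cfsg.SU 5 F 2} (e : ∀ i, mat A *ᵥ f i = mat B *ᵥ f i) : A = B := by
  have hli : LinearIndependent F f := by
    rw [Fintype.linearIndependent_iff]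
    intro c hc j
    have h1 := congrArg (fun v => h v (f j)) hc
    simp only [Cfsg.hermForm, Finset.sum_apply, Pi.smul_apply, smul_eq_mul, Finset.sum_mul, Pi.zero_apply,
      zero_mul, Finset.sum_const_zero] at h1
    rw [Finset.sum_comm] at h1
    simp only [mul_assoc, ← Finset.mul_sum] at h1
    have h2 : ∀ i, ∑ x, f i x * f j x ^ 2 = if i = j then 1 else 0 := fun i => hf i j
    simpa [h2] using h1
  have htop : Submodule.span F (Set.range f) = ⊤ :=
    hli.span_eq_top_of_card_eq_finrank (by simp)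
  have hlin : (mat A).mulVecLin = (mat B).mulVecLin :=
    LinearMap.ext_on_range htop fun i => e i
  exact su_ext fun x => LinearMap.congr_fun hlin x

/-- Two transvections act as `diag(ω, ω²)` on a pair of orthogonal unit vectors. -/
theorem pair_diag {a b : V} (ha : h a a = 1) (hb : h b b = 1) (hab : h a b = 0) (v : V) :
    h (a + b) (a + b) = 0 ∧ h (a + ω • b) (a + ω • b) = 0 ∧
    mat (tu hF (a + b) * tu hF (a + ω • b)) *ᵥ v = v + (ω * ω * h v a) • a + (ω * h v b) • b := by
  have hba : h b a = 0 := by rw [← h_swap hF a b, hab, map_zero]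
  have h1 : h (a + b) (a + b) = 0 := by
    simp only [h_add_left, h_add_right hF, ha, hb, hab, hba, add_zero, zero_add]
    exact CfsgUniqueTT.Unitary.add_self hF 1
  have h2 : h (a + ω • b) (a + ω • b) = 0 := by
    simp only [h_add_left, h_add_right hF, h_smul_left, h_smul_right hF, ha, hb, hab, hba, omega_frob hF,
      mul_zero, mul_one, add_zero, zero_add]
    linear_combination omega_sq hF + (ω + 1) * two_zero hF
  refine ⟨h1, h2, ?_⟩
  rw [mat_mul, ← mulVec_mulVec, tu_mulVec hF h2, tu_mulVec hF h1]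
  simp only [h_add_left, h_add_right hF, h_smul_left, h_smul_right hF, ha, hb, hab, hba, omega_frob hF]
  ext i
  simp only [Pi.add_apply, Pi.smul_apply, smul_eq_mul]
  linear_combination (h v b * a i - h v a * a i) * omega_sq hF +
    (h v a * a i + (2 * ω + 2) * h v b * a i + (1 + ω) * h v a * b i +
      (ω ^ 2 + ω + 1) * h v b * b i) * two_zero hF

/-- The six transvections. -/
theorem Z_six {e q : V} (he : h e e = 1) (hq : h q q = 0) (hqe : h q e = 1) :
    ∃ a b c d : V, (∀ u ∈ [a, b, c, d], h u u = 0 ∧ h u q = 0 ∧ h u (mat (Z hF e) *ᵥ q) = 0) ∧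
      Z hF e = tu hF q * tu hF (mat (Z hF e) *ᵥ q) * ((tu hF a * tu hF b) * (tu hF c * tu hF d)) := by
  set b' := q + e with hb'
  have heq : h e q = 1 := by rw [← h_swap hF q e, hqe, map_one]
  have hb : h b' b' = 1 := by
    simp only [hb', h_add_left, h_add_right hF, hq, he, hqe, heq]
    linear_combination two_zero hF
  have hbe : h b' e = 0 := by
    simp only [hb', h_add_left, hqe, he]
    exact CfsgUniqueTT.Unitary.add_self hF 1
  have heb : h e b' = 0 := by rw [← h_swap hF b' e, hbe, map_zero]
  obtain ⟨f₁, h1, h1'⟩ := exists_unit_perp hF (k := 2) (by norm_num) ![b', e] (by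
    intro i j; fin_cases i <;> fin_cases j <;> simp [hb, he, hbe, heb])
  have e10 : h f₁ b' = 0 := h1' 0
  have e11 : h f₁ e = 0 := h1' 1
  have e10' : h b' f₁ = 0 := by rw [← h_swap hF, e10, map_zero]
  have e11' : h e f₁ = 0 := by rw [← h_swap hF, e11, map_zero]
  obtain ⟨f₂, h2, h2'⟩ := exists_unit_perp hF (k := 3) (by norm_num) ![b', e, f₁] (by
    intro i j; fin_cases i <;> fin_cases j <;> simp [hb, he, h1, hbe, heb, e10, e11, e10', e11'])
  have e20 : h f₂ b' = 0 := h2' 0
  have e21 : h f₂ e = 0 := h2' 1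
  have e22 : h f₂ f₁ = 0 := h2' 2
  have e20' : h b' f₂ = 0 := by rw [← h_swap hF, e20, map_zero]
  have e21' : h e f₂ = 0 := by rw [← h_swap hF, e21, map_zero]
  have e22' : h f₁ f₂ = 0 := by rw [← h_swap hF, e22, map_zero]
  obtain ⟨f₃, h3, h3'⟩ := exists_unit_perp hF (k := 4) (by norm_num) ![b', e, f₁, f₂] (by
    intro i j
    fin_cases i <;> fin_cases j <;>
      simp [hb, he, h1, h2, hbe, heb, e10, e11, e10', e11', e20, e21, e22, e20', e21', e22'])
  have e30 : h f₃ b' = 0 := h3' 0
  have e31 : h f₃ e = 0 := h3' 1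
  have e32 : h f₃ f₁ = 0 := h3' 2
  have e33 : h f₃ f₂ = 0 := h3' 3
  have e30' : h b' f₃ = 0 := by rw [← h_swap hF, e30, map_zero]
  have e31' : h e f₃ = 0 := by rw [← h_swap hF, e31, map_zero]
  have e32' : h f₁ f₃ = 0 := by rw [← h_swap hF, e32, map_zero]
  have e33' : h f₂ f₃ = 0 := by rw [← h_swap hF, e33, map_zero]
  have hqq : q = b' + e := by
    ext i
    simp only [hb', Pi.add_apply]
    linear_combination (-(e i)) * two_zero hF
  have hperp : ∀ u : V, h u b' = 0 → h u e = 0 → h u q = 0 ∧ h u (mat (Z hF e) *ᵥ q) = 0 := by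
    intro u u1 u2
    have u3 : h u q = 0 := by rw [hqq, h_add_right hF, u1, u2, add_zero]
    refine ⟨u3, ?_⟩
    rw [Z_mulVec hF he, h_add_right hF, h_smul_right hF, h_smul_right hF, u3, u2, mul_zero, mul_zero, add_zero]
  refine ⟨f₁ + f₂, f₁ + ω • f₂, f₃ + f₂, f₃ + ω • f₂, ?_, ?_⟩
  · intro u hu
    have p12 := pair_diag hF h1 h2 e22' 0
    have p32 := pair_diag hF h3 h2 e33 0
    simp only [List.mem_cons, List.not_mem_nil, or_false] at hu
    rcases hu with rfl | rfl | rfl | rfl <;>
      refine ⟨?_, hperp _ (by simp [h_add_left, h_smul_left, e10, e20, e30])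
        (by simp [h_add_left, h_smul_left, e11, e21, e31])⟩
    exacts [p12.1, p12.2.1, p32.1, p32.2.1]
  · have hzq : tu hF (mat (Z hF e) *ᵥ q) = tu hF (b' + ω • e) := by
      have hz : mat (Z hF e) *ᵥ q = ω • (b' + ω • e) := by
        rw [Z_mulVec hF he, hqe, one_smul, hqq]
        ext i
        simp only [Pi.add_apply, Pi.smul_apply, smul_eq_mul]
        linear_combination (-(e i)) * omega_sq hF
      rw [hz, tu_smul hF (pair_diag hF hb he hbe 0).2.1 (omega_ne hF)]
    rw [hzq]
    conv_rhs => rw [hqq]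
    refine ext_frame hF ![b', e, f₁, f₂, f₃] ?_ ?_
    · intro i j
      fin_cases i <;> fin_cases j <;>
        simp [hb, he, h1, h2, h3, hbe, heb, e10, e11, e10', e11', e20, e21, e22, e20', e21', e22', e30, e31, e32,
          e33, e30', e31', e32', e33']
    · intro i
      rw [mat_mul, mat_mul (tu hF (f₁ + f₂) * _), ← mulVec_mulVec, ← mulVec_mulVec,
        (pair_diag hF h3 h2 e33 _).2.2, (pair_diag hF h1 h2 e22' _).2.2, (pair_diag hF hb he hbe _).2.2,
        Z_mulVec hF he]
      simp only [h_add_left, h_smul_left]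
      fin_cases i <;>
        simp [hb, he, h1, h2, h3, hbe, heb, e10, e11, e10', e11', e20, e21, e22, e20', e21', e22', e30, e31, e32,
          e33, e30', e31', e32', e33'] <;>
        ext j <;> simp <;>
        first
          | linear_combination (0 : F) * omega_sq hF
          | linear_combination (-(b' j)) * omega_sq hF - b' j * two_zero hF
          | linear_combination (-(f₁ j)) * omega_sq hF - f₁ j * two_zero hF
          | linear_combination (-(f₃ j)) * omega_sq hF - f₃ j * two_zero hF
          | linear_combination (-(f₂ j)) * omega_sq hF - (ω + 1) * f₂ j * two_zero hF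

end CfsgUniqueTT.Unitary.Five
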