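/-
In a 3-transposition group over `SU(5,2)` with abelian kernel, a lift of the element attached to a unit vector
fixes no non-trivial element of the kernel.
-/
import Cfsg.Agent.Lib.ThreeTrans.UnitaryFive.Reflection
import Cfsg.Agent.Lib.ThreeTrans.Basic
import Cfsg.Prelude.Def_Transfer

set_option autoImplicit false
set_option linter.unusedSectionVars false

namespace CfsgUniqueTT.Unitary.Five

open Matrix CfsgLib CfsgLib.UnitaryTransvection CfsgLib.UnitarySimple

variable {F : Type} [Field F] [Fintype F] [DecidableEq F] (hF : Fintype.card F = 2 ^ 2)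
  {G : Type*} [Group G] [Finite G] {D : Set G}

local notation "h" => Cfsg.hermForm 5 F 2
local notation "V" => (Fin 5 → F)

theorem fixed_eq_one (hD : Cfsg.IsThreeTranspositionClass D) (hZ : Subgroup.center G = ⊥)
    (φ : G →* Cfsg.SU 5 F 2) (hφ : Function.Surjective φ) (hV : Cfsg.IsElementaryAbelian 2 φ.ker)
    (hS : ∀ a, a ∈ φ '' D ↔ ∃ u : V, u ≠ 0 ∧ h u u = 0 ∧ a = tu hF u)
    {e : V} (he : h e e = 1) {x u : G} (hx : φ x = Z hF e) (hu : φ u = 1) (hxu : Commute x u) : u = 1 := by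
  classical
  obtain ⟨hS3, ⟨d₀, hd₀, hDc⟩, hgen⟩ := id hD
  have hsq : ∀ d ∈ D, d * d = 1 := fun d hd => CfsgThreeTrans.mul_self hS3 hd
  have hinv : ∀ d ∈ D, d⁻¹ = d := fun d hd => CfsgThreeTrans.inv_self hS3 hd
  have hconj : ∀ g : G, ∀ d ∈ D, g * d * g⁻¹ ∈ D := fun g d hd => by
    rw [hDc] at hd ⊢
    exact (show IsConj d₀ d from hd).trans (isConj_iff.mpr ⟨g, rfl⟩)
  have kcomm : ∀ a b, φ a = 1 → φ b = 1 → Commute a b := fun a b ha hb =>
    congrArg Subtype.val (hV.1.is_comm.comm ⟨a, ha⟩ ⟨b, hb⟩)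
  have ksq : ∀ a, φ a = 1 → a * a = 1 := fun a ha => by
    rw [← pow_two]; exact hV.2 a ha
  have lift : ∀ d ∈ D, ∀ d' ∈ D, Commute (φ d) (φ d') → Commute d d' := by
    intro d hd d' hd' hc
    rcases hS3.2 d hd d' hd' with e2 | e3
    · exact (CfsgThreeTrans.commute_iff_sq (hS3.1 d hd) (hS3.1 d' hd')).mpr e2
    · have h2 : (φ (d * d')) ^ 2 = 1 := by
        rw [map_mul, hc.mul_pow, pow_two, pow_two, ← map_mul, ← map_mul, hsq d hd, hsq d' hd', map_one, one_mul]
      have h3 : (φ (d * d')) ^ 3 = 1 := by rw [← map_pow, e3, map_one]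
      rw [pow_succ, h2, one_mul] at h3
      have h4 := ksq _ h3
      rw [pow_succ, pow_two, h4, one_mul] at e3
      have : d = d' := by
        calc d = d * d' * d' := by rw [mul_assoc, hsq d' hd', mul_one]
          _ = d' := by rw [e3, one_mul]
      rw [this]
  -- elements of the kernel fixed by all members whose images commute with `k`
  let Fix : Cfsg.SU 5 F 2 → Set G := fun k => {v | φ v = 1 ∧ ∀ d ∈ D, Commute (φ d) k → Commute d v}
  have Fmul : ∀ k a b, a ∈ Fix k → b ∈ Fix k → a * b ∈ Fix k := fun k a b ha hb =>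
    ⟨by rw [map_mul, ha.1, hb.1, one_mul], fun d hd hc => (ha.2 d hd hc).mul_right (hb.2 d hd hc)⟩
  have shift : ∀ v, φ v = 1 → ∀ g ∈ D, v⁻¹ * (g * v * g⁻¹) ∈ Fix (φ g) := by
    intro v hv g hg
    refine ⟨by simp [map_mul, hv], fun d hd hc => ?_⟩
    have e1 : v⁻¹ * (g * v * g⁻¹) = (v⁻¹ * g * (v⁻¹)⁻¹) * g := by
      rw [inv_inv, hinv g hg]; simp only [mul_assoc]
    rw [e1]
    refine (lift d hd _ (hconj _ _ hg) ?_).mul_right (lift d hd g hg hc)
    simpa [map_mul, hv] using hc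
  have inter : ∀ p q : V, p ≠ 0 → h p p = 0 → h q q = 0 → h p q ≠ 0 →
      ∀ v, v ∈ Fix (tu hF p) → v ∈ Fix (tu hF q) → v = 1 := by
    intro p q hp0 hp hq hpq v hvp hvq
    set H := Subgroup.centralizer ({v} : Set G)
    have hmem : ∀ d ∈ D, d ∈ H := by
      intro d hd
      obtain ⟨m, -, hm, hdm⟩ := (hS _).mp ⟨d, hd, rfl⟩
      have hle : Subgroup.closure {a | (∃ w : V, h w w = 0 ∧ a = tu hF w) ∧
          (Commute a (tu hF p) ∨ Commute a (tu hF q))} ≤ H.map φ := by
        rw [Subgroup.closure_le]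
        rintro a ⟨⟨w, hw, rfl⟩, hor⟩
        by_cases hw0 : w = 0
        · have h1 : tu hF w = 1 := su_ext fun y => by
            rw [tu_mulVec hF hw, hw0, smul_zero, add_zero, mat_one, one_mulVec]
          rw [SetLike.mem_coe, h1]
          exact one_mem _
        · obtain ⟨g, hg, hge⟩ := (hS _).mpr ⟨w, hw0, hw, rfl⟩
          rw [← hge] at hor
          exact ⟨g, Subgroup.mem_centralizer_singleton_iff.mpr
            (hor.elim (fun c => (hvp.2 g hg c).eq) fun c => (hvq.2 g hg c).eq), hge⟩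
      obtain ⟨g, hg, hgd⟩ := hle (tu_mem_pair hF (le_refl 5) hp0 hp hq
        (fun c => hpq (of_tu_commute hF hp hp0 hq c)) hm)
      have hk : g⁻¹ * d ∈ H := Subgroup.mem_centralizer_singleton_iff.mpr
        (kcomm _ _ (by rw [map_mul, map_inv, hgd, hdm, inv_mul_cancel]) hvp.1).eq
      simpa using mul_mem hg hk
    have hc : v ∈ Subgroup.center G := Subgroup.mem_center_iff.mpr fun g => by
      have : g ∈ H := (Subgroup.closure_le H).mpr hmem (hgen ▸ Subgroup.mem_top g)
      exact Subgroup.mem_centralizer_singleton_iff.mp this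
    rwa [hZ, Subgroup.mem_bot] at hc
  -- conjugation on the kernel depends on the image only
  have same : ∀ a b v, φ a = φ b → φ v = 1 → a * v * a⁻¹ = b * v * b⁻¹ := by
    intro a b v hab hv
    have := kcomm (b⁻¹ * a) v (by rw [map_mul, map_inv, hab, inv_mul_cancel]) hv
    calc a * v * a⁻¹ = b * ((b⁻¹ * a) * v) * (b⁻¹ * a)⁻¹ * b⁻¹ := by group
      _ = b * (v * (b⁻¹ * a)) * (b⁻¹ * a)⁻¹ * b⁻¹ := by rw [this.eq]
      _ = b * v * b⁻¹ := by group
  -- members over a transvection not commuting with `Z e` centralise `u`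
  have step1 : ∀ q : V, h q q = 0 → h q e = 1 → ∀ d ∈ D, φ d = tu hF q → Commute d u := by
    intro q hq hqe d hd hdq
    set r := mat (Z hF e) *ᵥ q with hr
    have hrr : h r r = 0 := by rw [hr, su_h, hq]
    set dr := x * d * x⁻¹ with hdr
    have hdrD : dr ∈ D := hconj x d hd
    have hdrφ : φ dr = tu hF r := by rw [hdr, map_mul, map_mul, map_inv, hx, hdq, tu_conj hF _ hq]
    set w := u⁻¹ * (d * u * d⁻¹) with hw
    have hwF : w ∈ Fix (tu hF q) := hdq ▸ shift u hu d hd
    set b := u⁻¹ * (dr * u * dr⁻¹) with hb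
    have hbF : b ∈ Fix (tu hF r) := hdrφ ▸ shift u hu dr hdrD
    set a := w⁻¹ * (dr * w * dr⁻¹) with ha
    have haF : a ∈ Fix (tu hF r) := hdrφ ▸ shift w hwF.1 dr hdrD
    set a' := a⁻¹ * (d * a * d⁻¹) with ha'
    have ha'F : a' ∈ Fix (tu hF q) := hdq ▸ shift a haF.1 d hd
    have hne : h r q = 1 := by
      rw [hr, Z_mulVec hF he, h_add_left, h_smul_left, h_smul_left, hq, hqe, mul_zero, zero_add, one_mul,
        ← h_swap hF q e, hqe, map_one]
    -- the action of `x` on `w`
    have hxw : x * w * x⁻¹ = d * (dr * w * dr⁻¹) * d⁻¹ := by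
      obtain ⟨f₁, f₂, f₃, f₄, hf, hsix⟩ := Z_six hF he hq hqe
      have hfix : ∀ f ∈ [f₁, f₂, f₃, f₄], ∃ g, φ g = tu hF f ∧ Commute g w := by
        intro f hf'
        obtain ⟨hff, hfq, -⟩ := hf f hf'
        by_cases hf0 : f = 0
        · refine ⟨1, ?_, Commute.one_left _⟩
          rw [map_one]
          exact su_ext fun y => by rw [tu_mulVec hF hff, hf0, smul_zero, add_zero, mat_one, one_mulVec]
        · obtain ⟨g, hg, hge⟩ := (hS _).mpr ⟨f, hf0, hff, rfl⟩
          exact ⟨g, hge, hwF.2 g hg (hge ▸ tu_commute hF hff hq hfq)⟩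
      obtain ⟨g₁, e₁, c₁⟩ := hfix f₁ (by simp)
      obtain ⟨g₂, e₂, c₂⟩ := hfix f₂ (by simp)
      obtain ⟨g₃, e₃, c₃⟩ := hfix f₃ (by simp)
      obtain ⟨g₄, e₄, c₄⟩ := hfix f₄ (by simp)
      have c : Commute ((g₁ * g₂) * (g₃ * g₄)) w := (c₁.mul_left c₂).mul_left (c₃.mul_left c₄)
      rw [same x (d * dr * ((g₁ * g₂) * (g₃ * g₄))) w (by
        simp only [map_mul, hdq, hdrφ, e₁, e₂, e₃, e₄, hx]; exact hsix) hwF.1]
      generalize (g₁ * g₂) * (g₃ * g₄) = y at c
      calc d * dr * y * w * (d * dr * y)⁻¹ = d * dr * (y * w) * y⁻¹ * dr⁻¹ * d⁻¹ := by group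
        _ = d * dr * (w * y) * y⁻¹ * dr⁻¹ * d⁻¹ := by rw [c.eq]
        _ = d * (dr * w * dr⁻¹) * d⁻¹ := by group
    have hxb : x * w * x⁻¹ = b := by
      rw [hw, hb, hdr]
      have hxu' : x * u⁻¹ = u⁻¹ * x := hxu.inv_right.eq
      have hxu'' : u * x⁻¹ = x⁻¹ * u := hxu.inv_left.eq.symm
      calc x * (u⁻¹ * (d * u * d⁻¹)) * x⁻¹ = (x * u⁻¹) * d * (u * d⁻¹) * x⁻¹ := by group
        _ = (u⁻¹ * x) * d * (x⁻¹ * (x * u) * d⁻¹) * x⁻¹ := by rw [hxu']; group
        _ = u⁻¹ * (x * d * x⁻¹) * (x * u) * d⁻¹ * x⁻¹ := by group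
        _ = u⁻¹ * (x * d * x⁻¹) * (u * x) * d⁻¹ * x⁻¹ := by rw [hxu.eq]
        _ = u⁻¹ * (x * d * x⁻¹ * u * (x * d * x⁻¹)⁻¹) := by group
    clear_value a' a b w
    have hdw : d * w * d⁻¹ = w := by
      rw [(hwF.2 d hd (hdq ▸ Commute.refl _)).eq, mul_inv_cancel_right]
    have hb2 : b = w * (a * a') := by
      rw [← hxb, hxw]
      calc d * (dr * w * dr⁻¹) * d⁻¹ = (d * w * d⁻¹) * (d * a * d⁻¹) := by rw [ha]; group
        _ = w * (a * a') := by rw [hdw, ha']; group
    have hba : b = a := by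
      have e1 : b * a = w * a' := by
        rw [hb2, mul_assoc, mul_assoc, (kcomm a' a ha'F.1 haF.1).eq, ← mul_assoc a a a', ksq a haF.1, one_mul]
      have e2 : b * a = 1 := inter r q (by
          rw [hr]; exact mat_ne_zero _ fun h0 => by rw [h0, h_zero_left hF] at hqe; exact zero_ne_one hqe)
        hrr hq (by rw [hne]; exact one_ne_zero) _ (Fmul _ _ _ hbF haF) (e1 ▸ Fmul _ _ _ hwF ha'F)
      calc b = b * (a * a) := by rw [ksq a haF.1, mul_one]
        _ = a := by rw [← mul_assoc, e2, one_mul]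
    -- the third member of the line
    set ds := x * dr * x⁻¹ with hds
    have hsd : φ ds = φ (d * dr * d⁻¹) := by
      have e1 : φ ds = Z hF e * tu hF r * (Z hF e)⁻¹ := by rw [hds, map_mul, map_mul, map_inv, hx, hdrφ]
      have e2 : φ (d * dr * d⁻¹) = tu hF q * tu hF r * (tu hF q)⁻¹ := by rw [map_mul, map_mul, map_inv, hdq, hdrφ]
      rw [e1, e2, tu_conj hF _ hrr, tu_conj hF _ hrr]
      congr 1
      rw [Z_mulVec hF he r, tu_mulVec hF hq r, hne]
      have hre : h r e = omega hF + 1 := by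
        rw [hr, Z_mulVec hF he, h_add_left, h_smul_left, h_smul_left, hqe, he, mul_one, mul_one]
      rw [hre, hr, Z_mulVec hF he, hqe]
      ext i
      simp only [Pi.add_apply, Pi.smul_apply, smul_eq_mul]
      linear_combination (q i) * omega_sq hF + (omega hF * e i) * two_zero hF
    have hd1 : d * u * d⁻¹ = u * w := by rw [hw, mul_inv_cancel_left]
    have hfix : ds * u * ds⁻¹ = u := by
      rw [same ds _ u hsd hu]
      have hd2 : d⁻¹ * u * d = u * w := by
        have := hd1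
        rwa [hinv d hd] at this ⊢
      have hd4 : dr * w * dr⁻¹ = w * a := by rw [ha, mul_inv_cancel_left]
      have hd5 : dr * u * dr⁻¹ = u * b := by rw [hb, mul_inv_cancel_left]
      calc d * dr * d⁻¹ * u * (d * dr * d⁻¹)⁻¹ = d * (dr * (d⁻¹ * u * d) * dr⁻¹) * d⁻¹ := by group
        _ = d * ((dr * u * dr⁻¹) * (dr * w * dr⁻¹)) * d⁻¹ := by rw [hd2]; group
        _ = d * (u * (b * (w * b))) * d⁻¹ := by rw [hd4, hd5, hba]; group
        _ = (d * u * d⁻¹) * (d * w * d⁻¹) := by
          rw [← mul_assoc b w b, (kcomm b w hbF.1 hwF.1).eq, mul_assoc w b b, ksq b hbF.1, mul_one]; group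
        _ = u := by rw [hd1, hdw, mul_assoc, ksq w hwF.1, mul_one]
    have hcs : Commute ds u := by
      show ds * u = u * ds
      calc ds * u = ds * u * ds⁻¹ * ds := by group
        _ = u * ds := by rw [hfix]
    have h2 := (hcs.map (MulAut.conj (x * x)⁻¹).toMonoidHom).eq
    simp only [MulEquiv.toMonoidHom_eq_coe, MonoidHom.coe_coe, MulAut.conj_apply, inv_inv] at h2
    have e1 : (x * x)⁻¹ * ds * (x * x) = d := by rw [hds, hdr]; group
    have e2 : (x * x)⁻¹ * u * (x * x) = u := by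
      rw [mul_assoc, ← (hxu.mul_left hxu).eq, inv_mul_cancel_left]
    rwa [e1, e2] at h2
  have step2 : ∀ q : V, h q q = 0 → h q e ≠ 0 → ∀ d ∈ D, φ d = tu hF q → Commute d u := by
    intro q hq hqe d hd hdq
    refine step1 ((h q e)⁻¹ • q) ?_ ?_ d hd ?_
    · rw [h_smul_left, h_smul_right hF, hq, mul_zero, mul_zero]
    · rw [h_smul_left, inv_mul_cancel₀ hqe]
    · rw [hdq, tu_smul hF hq (inv_ne_zero hqe)]
  have step3 : ∀ d ∈ D, Commute d u := by
    intro d hd
    obtain ⟨q, hq0, hq, hdq⟩ := (hS _).mp ⟨d, hd, rfl⟩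
    by_cases hqe : h q e = 0
    swap
    · exact step2 q hq hqe d hd hdq
    obtain ⟨y, hy1, hy2⟩ := exists_partner (n := 5) hF hq0
    set y₁ := y + h y e • e with hy₁
    have heq : h e q = 0 := by rw [← h_swap hF q e, hqe, map_zero]
    have y1e : h y₁ e = 0 := by
      rw [hy₁, h_add_left, h_smul_left, he, mul_one]
      exact CfsgUniqueTT.Unitary.add_self hF _
    have y1q : h y₁ q = 1 := by rw [hy₁, h_add_left, h_smul_left, hy2, heq, mul_zero, add_zero]
    have qy1 : h q y₁ = 1 := by rw [← h_swap hF, y1q, map_one]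
    obtain ⟨t, ht⟩ := exists_trace_one hF
    set p := y₁ + (h y₁ y₁ * t) • q with hp'
    have hp : h p p = 0 := by
      simp only [hp', h_add_left, h_add_right hF, h_smul_left, h_smul_right hF, hq, y1q, qy1, mul_zero, add_zero,
        mul_one, map_mul, h_swap hF]
      linear_combination (h y₁ y₁) * ht + (h y₁ y₁) * two_zero hF
    have hpq : h p q = 1 := by rw [hp', h_add_left, h_smul_left, y1q, hq, mul_zero, add_zero]
    have hqp : h q p = 1 := by rw [← h_swap hF, hpq, map_one]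
    have hpe : h p e = 0 := by rw [hp', h_add_left, h_smul_left, y1e, hqe, mul_zero, add_zero]
    have hep : h e p = 0 := by rw [← h_swap hF, hpe, map_zero]
    obtain ⟨r, hr, hrp, hrq, hre⟩ := exists_unit_three hF (le_refl 5) hp hq hpq hep heq he
    have her : h e r = 0 := by rw [← h_swap hF r e, hre, map_zero]
    have hpr : h p r = 0 := by rw [← h_swap hF r p, hrp, map_zero]
    set q' := p + e + r with hq''
    have hq' : h q' q' = 0 := by
      simp only [hq'', h_add_left, h_add_right hF, hp, he, hr, hpe, hep, hrp, hpr, hre, her]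
      linear_combination two_zero hF
    have hq'e : h q' e = 1 := by simp only [hq'', h_add_left, hpe, he, hre, zero_add, add_zero]
    have hq'q : h q' q = 1 := by simp only [hq'', h_add_left, hpq, heq, hrq, add_zero]
    have hqq' : h q q' = 1 := by rw [← h_swap hF, hq'q, map_one]
    have hq'0 : q' ≠ 0 := fun h0 => by rw [h0, h_zero_left hF] at hq'e; exact zero_ne_one hq'e
    obtain ⟨d', hd', hd'q⟩ := (hS _).mpr ⟨q', hq'0, hq', rfl⟩
    have hc := step2 q' hq' (by rw [hq'e]; exact one_ne_zero) d' hd' hd'q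
    have hd''q : φ (d' * d * d'⁻¹) = tu hF (q + q') := by
      rw [map_mul, map_mul, map_inv, hd'q, hdq, tu_conj hF _ hq, tu_mulVec hF hq', hqq', one_smul]
    have hqq'0 : h (q + q') (q + q') = 0 := by
      simp only [h_add_left, h_add_right hF, hq, hq', hqq', hq'q, zero_add, add_zero]
      exact CfsgUniqueTT.Unitary.add_self hF 1
    have hc' := step2 (q + q') hqq'0 (by rw [h_add_left, hqe, hq'e, zero_add]; exact one_ne_zero)
      _ (hconj d' d hd) hd''q
    have := (hc.inv_left.mul_left hc').mul_left hc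
    rwa [show d'⁻¹ * (d' * d * d'⁻¹) * d' = d by group] at this
  have hcent : u ∈ Subgroup.center G := Subgroup.mem_center_iff.mpr fun g => by
    have hle : Subgroup.closure D ≤ Subgroup.centralizer ({u} : Set G) := (Subgroup.closure_le _).mpr fun d hd =>
      Subgroup.mem_centralizer_singleton_iff.mpr (step3 d hd).eq
    exact Subgroup.mem_centralizer_singleton_iff.mp (hle (hgen ▸ Subgroup.mem_top g))
  rwa [hZ, Subgroup.mem_bot] at hcent

end CfsgUniqueTT.Unitary.Five
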