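/-
The orthogonality graph of the unit vectors of a five-dimensional unitary space over four elements, read off a
fixed orthonormal basis: two vectors with zero coordinates that are orthogonal share one, and the neighbours with
a zero coordinate of a vector without zero coordinates form a connected set.
-/
import Cfsg.Agent.Lib.ThreeTrans.UnitaryFive.Reflection

set_option autoImplicit false
set_option linter.unusedSectionVars false

namespace CfsgUniqueTT.Unitary.Five

open Matrix CfsgLib CfsgLib.UnitaryTransvection CfsgLib.UnitarySimple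

variable {F : Type*} [Field F] [Fintype F] [DecidableEq F] (hF : Fintype.card F = 2 ^ 2)

local notation "h" => Cfsg.hermForm 5 F 2
local notation "σ" => frob hF
local notation "V" => (Fin 5 → F)

include hF

theorem h_apply (u v : V) : h u v = ∑ i, u i * σ (v i) := by
  simp only [Cfsg.hermForm, frob_apply hF]

theorem norm_support (u : V) : h u u = ((Finset.univ.filter fun i => u i ≠ 0).card : F) := by
  rw [h_apply hF, ← Finset.sum_filter_ne_zero]
  have e : (Finset.univ.filter fun i => u i * σ (u i) ≠ 0) = Finset.univ.filter fun i => u i ≠ 0 := by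
    ext i; simp
  rw [e, Finset.sum_congr rfl fun i hi => norm_one hF (Finset.mem_filter.mp hi).2]
  simp

theorem support_odd {u : V} (hu : h u u = 1) : Odd (Finset.univ.filter fun i => u i ≠ 0).card := by
  rw [norm_support hF] at hu
  by_contra hodd
  obtain ⟨m, hm⟩ := Nat.not_odd_iff_even.mp hodd
  rw [hm, Nat.cast_add, CfsgUniqueTT.Unitary.add_self hF] at hu
  exact zero_ne_one hu

/-- Orthogonal unit vectors with zero coordinates have a common one. -/
theorem common_zero {u v : V} (hu : h u u = 1) (hv : h v v = 1) (huv : h u v = 0)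
    (hu0 : ∃ i, u i = 0) (hv0 : ∃ i, v i = 0) : ∃ i, u i = 0 ∧ v i = 0 := by
  classical
  by_contra hcon
  push Not at hcon
  set A := Finset.univ.filter fun i => u i ≠ 0 with hA
  set B := Finset.univ.filter fun i => v i ≠ 0 with hB
  have hAB : A ∪ B = Finset.univ := by
    ext i
    simp only [hA, hB, Finset.mem_union, Finset.mem_filter, Finset.mem_univ, true_and, iff_true]
    by_contra hh
    push Not at hh
    exact hcon i hh.1 hh.2
  have hA5 : A.card < 5 := by
    obtain ⟨i, hi⟩ := hu0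
    refine lt_of_lt_of_le (Finset.card_lt_card (Finset.filter_ssubset.mpr ⟨i, Finset.mem_univ i, ?_⟩)) (by simp)
    simpa using hi
  have hB5 : B.card < 5 := by
    obtain ⟨i, hi⟩ := hv0
    refine lt_of_lt_of_le (Finset.card_lt_card (Finset.filter_ssubset.mpr ⟨i, Finset.mem_univ i, ?_⟩)) (by simp)
    simpa using hi
  have hI := Finset.card_union_add_card_inter A B
  rw [hAB, Finset.card_univ, Fintype.card_fin] at hI
  obtain ⟨a, ha⟩ := support_odd hF hu
  obtain ⟨b, hb⟩ := support_odd hF hv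
  rw [← hA] at ha
  rw [← hB] at hb
  obtain ⟨i, hi⟩ := Finset.card_eq_one.mp (show (A ∩ B).card = 1 by omega)
  have hmem : i ∈ A ∩ B := by rw [hi]; exact Finset.mem_singleton_self i
  simp only [hA, hB, Finset.mem_inter, Finset.mem_filter] at hmem
  rw [h_apply hF, Finset.sum_eq_single i] at huv
  · exact (mul_eq_zero.mp huv).elim hmem.1.2 fun e => hmem.2.2 ((map_eq_zero σ).mp e)
  · intro j _ hj
    by_contra hne
    have : j ∈ A ∩ B := by
      simp only [hA, hB, Finset.mem_inter, Finset.mem_filter, Finset.mem_univ, true_and]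
      exact ⟨fun e => hne (by rw [e, zero_mul]), fun e => hne (by rw [e, map_zero, mul_zero])⟩
    rw [hi, Finset.mem_singleton] at this
    exact hj this
  · simp

/-- The vector supported by `i j k` with ratios `1, ω, ω²` against `w`. -/
noncomputable def tri (w : V) (i j k : Fin 5) : V :=
  fun x => (if x = i then 1 else if x = j then omega hF else if x = k then omega hF * omega hF else 0) * w x

theorem tri_h {w : V} {i j k : Fin 5} (hij : i ≠ j) (hik : i ≠ k) (hjk : j ≠ k) (v : V) :
    h (tri hF w i j k) v = w i * σ (v i) + omega hF * (w j * σ (v j)) + omega hF * omega hF * (w k * σ (v k)) := by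
  rw [h_apply hF]
  have e : ∀ x, tri hF w i j k x * σ (v x) = (if x = i then w x * σ (v x) else 0) +
      (if x = j then omega hF * (w x * σ (v x)) else 0) +
      (if x = k then omega hF * omega hF * (w x * σ (v x)) else 0) := by
    intro x
    unfold tri
    split_ifs with h1 h2 h3
    · exact absurd (h1.symm.trans h2) hij
    all_goals first
      | (subst_vars; simp [mul_assoc]; done)
      | (subst_vars; simp_all; done)
  simp only [e, Finset.sum_add_distrib, Finset.sum_ite_eq', Finset.mem_univ, if_true]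

theorem tri_zero {w : V} (i j k : Fin 5) : ∃ x, tri hF w i j k x = 0 := by
  obtain ⟨x, h1, h2, h3⟩ : ∃ x, x ≠ i ∧ x ≠ j ∧ x ≠ k := by revert i j k; decide
  exact ⟨x, by simp [tri, h1, h2, h3]⟩

theorem tri_apply {w : V} {i j k : Fin 5} (hij : i ≠ j) (hik : i ≠ k) (hjk : j ≠ k) :
    tri hF w i j k i = w i ∧ tri hF w i j k j = omega hF * w j ∧
    tri hF w i j k k = omega hF * omega hF * w k ∧
    ∀ x, x ≠ i → x ≠ j → x ≠ k → tri hF w i j k x = 0 := by
  refine ⟨?_, ?_, ?_, ?_⟩
  · simp [tri]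
  · simp [tri, hij.symm]
  · simp [tri, hik.symm, hjk.symm]
  · intro x h1 h2 h3; simp [tri, h1, h2, h3]

theorem tri_unit {w : V} (hw : ∀ x, w x ≠ 0) {i j k : Fin 5} (hij : i ≠ j) (hik : i ≠ k) (hjk : j ≠ k) :
    h (tri hF w i j k) (tri hF w i j k) = 1 := by
  obtain ⟨e1, e2, e3, -⟩ := tri_apply hF (w := w) hij hik hjk
  rw [tri_h hF hij hik hjk, e1, e2, e3, map_mul, map_mul, map_mul, omega_frob hF]
  linear_combination norm_one hF (hw i) + (omega hF * (omega hF + 1)) * norm_one hF (hw j) +
    (omega hF * omega hF * (omega hF + 1) * (omega hF + 1)) * norm_one hF (hw k) +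
    (omega hF ^ 2 + 3 * omega hF + 6) * omega_sq hF + (5 * omega hF + 3) * two_zero hF

theorem tri_perp {w : V} (hw : ∀ x, w x ≠ 0) {i j k : Fin 5} (hij : i ≠ j) (hik : i ≠ k) (hjk : j ≠ k) :
    h (tri hF w i j k) w = 0 := by
  rw [tri_h hF hij hik hjk, norm_one hF (hw i), norm_one hF (hw j), norm_one hF (hw k)]
  linear_combination omega_sq hF + (omega hF + 1) * two_zero hF

theorem tri_adj {w : V} (hw : ∀ x, w x ≠ 0) {i j k m : Fin 5} (hij : i ≠ j) (hik : i ≠ k) (hjk : j ≠ k)
    (hmi : m ≠ i) (hmj : m ≠ j) (hmk : m ≠ k) :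
    h (tri hF w i j k) (tri hF w m j k) = 0 ∧ h (tri hF w i j k) (tri hF w i m k) = 0 ∧
    h (tri hF w i j k) (tri hF w i j m) = 0 := by
  refine ⟨?_, ?_, ?_⟩
  · obtain ⟨-, e2, e3, e4⟩ := tri_apply hF (w := w) hmj hmk hjk
    rw [tri_h hF hij hik hjk, e2, e3, e4 i hmi.symm hij hik, map_zero, map_mul, map_mul, map_mul, omega_frob hF]
    linear_combination (omega hF * (omega hF + 1)) * norm_one hF (hw j) +
      (omega hF * omega hF * (omega hF + 1) * (omega hF + 1)) * norm_one hF (hw k) +
      (omega hF ^ 2 + 3 * omega hF + 6) * omega_sq hF + (5 * omega hF + 3) * two_zero hF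
  · obtain ⟨e1, -, e3, e4⟩ := tri_apply hF (w := w) hmi.symm hik hmk
    rw [tri_h hF hij hik hjk, e1, e3, e4 j hij.symm hmj.symm hjk, map_zero, map_mul, map_mul, omega_frob hF]
    linear_combination norm_one hF (hw i) +
      (omega hF * omega hF * (omega hF + 1) * (omega hF + 1)) * norm_one hF (hw k) +
      (omega hF ^ 2 + 3 * omega hF + 5) * omega_sq hF + (4 * omega hF + 3) * two_zero hF
  · obtain ⟨e1, e2, -, e4⟩ := tri_apply hF (w := w) hij hmi.symm hmj.symm
    rw [tri_h hF hij hik hjk, e1, e2, e4 k hik.symm hjk.symm hmk.symm, map_zero, map_mul, omega_frob hF]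
    linear_combination norm_one hF (hw i) + (omega hF * (omega hF + 1)) * norm_one hF (hw j) +
      omega_sq hF + (omega hF + 1) * two_zero hF

theorem cube_root {m : F} (hm : m ≠ 0) : m = 1 ∨ m = omega hF ∨ m = omega hF * omega hF := by
  have e : (m - 1) * ((m - omega hF) * (m - omega hF * omega hF)) = 0 := by
    linear_combination cube hF hm + (-(m * m) + m * omega hF) * omega_sq hF +
      (omega hF + 1) * (-(m * m) + m * omega hF) * two_zero hF - omega_cube hF
  rcases mul_eq_zero.mp e with h1 | h1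
  · exact Or.inl (sub_eq_zero.mp h1)
  rcases mul_eq_zero.mp h1 with h2 | h2
  · exact Or.inr (Or.inl (sub_eq_zero.mp h2))
  · exact Or.inr (Or.inr (sub_eq_zero.mp h2))

/-- The neighbours with a zero coordinate. -/
theorem low_neighbour {w u : V} (hw : ∀ x, w x ≠ 0) (hu : h u u = 1) (huw : h u w = 0) (hu0 : ∃ x, u x = 0) :
    ∃ i j k : Fin 5, i ≠ j ∧ i ≠ k ∧ j ≠ k ∧ ∃ c : F, c ≠ 0 ∧ u = c • tri hF w i j k := by
  classical
  set A := Finset.univ.filter fun i => u i ≠ 0 with hA
  have hA5 : A.card < 5 := by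
    obtain ⟨i, hi⟩ := hu0
    refine lt_of_lt_of_le (Finset.card_lt_card (Finset.filter_ssubset.mpr ⟨i, Finset.mem_univ i, ?_⟩)) (by simp)
    simpa using hi
  obtain ⟨a, ha⟩ := support_odd hF hu
  rw [← hA] at ha
  have hout : ∀ x, x ∉ A → u x = 0 := fun x hx => by simpa [hA] using hx
  have hin : ∀ x ∈ A, u x ≠ 0 := fun x hx => (Finset.mem_filter.mp hx).2
  rw [h_apply hF, ← Finset.sum_subset (Finset.subset_univ A) (fun x _ hx => by rw [hout x hx, zero_mul])] at huw
  set c : Fin 5 → F := fun x => u x * σ (w x) with hc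
  have hcu : ∀ x, u x = c x * w x := fun x => by
    rw [hc]; simp only; rw [mul_assoc, norm_fix hF (hw x), mul_one]
  have hcn : ∀ x ∈ A, c x ≠ 0 := fun x hx => mul_ne_zero (hin x hx) fun e => hw x ((map_eq_zero σ).mp e)
  rcases (show a = 0 ∨ a = 1 by omega) with rfl | rfl
  · obtain ⟨i, hi⟩ := Finset.card_eq_one.mp (show A.card = 1 by omega)
    rw [hi, Finset.sum_singleton] at huw
    exact absurd huw (hcn i (by rw [hi]; exact Finset.mem_singleton_self i))
  obtain ⟨i, j, k, hij, hik, hjk, hA3⟩ := Finset.card_eq_three.mp (show A.card = 3 by omega)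
  have hi : c i ≠ 0 := hcn i (by rw [hA3]; simp)
  have hj : c j ≠ 0 := hcn j (by rw [hA3]; simp)
  have hk : c k ≠ 0 := hcn k (by rw [hA3]; simp)
  rw [hA3, Finset.sum_insert (by simp [hij, hik]), Finset.sum_insert (by simp [hjk]), Finset.sum_singleton] at huw
  have hsum : c i + (c j + c k) = 0 := huw
  have key : ∀ j k : Fin 5, i ≠ j → i ≠ k → j ≠ k → (∀ x, x ≠ i → x ≠ j → x ≠ k → u x = 0) →
      c j = omega hF * c i → c i + (c j + c k) = 0 → u = c i • tri hF w i j k := by
    intro j k hij hik hjk hout ej hs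
    have ek : c k = omega hF * omega hF * c i := by
      linear_combination hs - ej - (c i) * omega_sq hF - (1 + omega hF) * (c i) * two_zero hF
    obtain ⟨e1, e2, e3, e4⟩ := tri_apply hF (w := w) hij hik hjk
    funext x
    rw [Pi.smul_apply, smul_eq_mul]
    by_cases h1 : x = i
    · rw [h1, e1, ← hcu]
    by_cases h2 : x = j
    · rw [h2, e2, hcu j, ej]; ring
    by_cases h3 : x = k
    · rw [h3, e3, hcu k, ek]; ring
    rw [e4 x h1 h2 h3, mul_zero, hout x h1 h2 h3]
  have hout' : ∀ x, x ≠ i → x ≠ j → x ≠ k → u x = 0 := fun x h1 h2 h3 => hout x (by rw [hA3]; simp [h1, h2, h3])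
  rcases cube_root hF (div_ne_zero hj hi) with e | e | e <;> rw [div_eq_iff hi] at e
  · exfalso
    refine hk ?_
    linear_combination hsum - e - (c i) * two_zero hF
  · exact ⟨i, j, k, hij, hik, hjk, c i, hi, key j k hij hik hjk hout' e hsum⟩
  · refine ⟨i, k, j, hik, hij, hjk.symm, c i, hi, key k j hik hij hjk.symm (fun x h1 h2 h3 => hout' x h1 h3 h2) ?_
      (by rw [add_comm (c k)]; exact hsum)⟩
    linear_combination hsum - e - (c i) * omega_sq hF - (1 + omega hF) * (c i) * two_zero hF

omit hF in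
/-- Triples of distinct elements of a five-element set are connected by changing one entry. -/
theorem triples_connected {α : Type*} (f : Fin 5 → Fin 5 → Fin 5 → α)
    (h1 : ∀ i j k m, i ≠ j → i ≠ k → j ≠ k → m ≠ i → m ≠ j → m ≠ k →
      f i j k = f m j k ∧ f i j k = f i m k ∧ f i j k = f i j m)
    {i j k : Fin 5} (hij : i ≠ j) (hik : i ≠ k) (hjk : j ≠ k) : f i j k = f 0 1 2 := by
  have ex : ∀ a b c d : Fin 5, ∃ x, x ≠ a ∧ x ≠ b ∧ x ≠ c ∧ x ≠ d := by decide
  have c1 : ∀ i j k m, i ≠ j → i ≠ k → j ≠ k → m ≠ j → m ≠ k → f i j k = f m j k := fun i j k m a b c d e => by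
    by_cases hm : m = i
    · rw [hm]
    · exact (h1 i j k m a b c hm d e).1
  have c2 : ∀ i j k m, i ≠ j → i ≠ k → j ≠ k → m ≠ i → m ≠ k → f i j k = f i m k := fun i j k m a b c d e => by
    by_cases hm : m = j
    · rw [hm]
    · exact (h1 i j k m a b c d hm e).2.1
  have c3 : ∀ i j k m, i ≠ j → i ≠ k → j ≠ k → m ≠ i → m ≠ j → f i j k = f i j m := fun i j k m a b c d e => by
    by_cases hm : m = k
    · rw [hm]
    · exact (h1 i j k m a b c d e hm).2.2
  have s3 : ∀ k, (0 : Fin 5) ≠ k → (1 : Fin 5) ≠ k → f 0 1 k = f 0 1 2 := fun k a b =>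
    c3 0 1 k 2 (by decide) a b (by decide) (by decide)
  have s2 : ∀ j k, (0 : Fin 5) ≠ j → (0 : Fin 5) ≠ k → j ≠ k → f 0 j k = f 0 1 2 := by
    intro j k a b c
    by_cases hk : k = 1
    · subst hk
      obtain ⟨m, m1, m2, m3, -⟩ := ex 0 j 1 1
      rw [c3 0 j 1 m a b c m1 m2, c2 0 j m 1 a m1.symm m2.symm (by decide) m3.symm]
      exact s3 m m1.symm m3.symm
    · rw [c2 0 j k 1 a b c (by decide) (Ne.symm hk)]
      exact s3 k b (Ne.symm hk)
  by_cases hj : j = 0
  · subst hj
    obtain ⟨m, m1, m2, m3, -⟩ := ex i 0 k k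
    rw [c2 i 0 k m hij hik hjk m1 m3, c1 i m k 0 m1.symm hik m3 m2.symm hjk]
    exact s2 m k m2.symm hjk m3
  by_cases hk : k = 0
  · subst hk
    obtain ⟨m, m1, m2, m3, -⟩ := ex i j 0 0
    rw [c3 i j 0 m hij hik hjk m1 m2, c1 i j m 0 hij m1.symm m2.symm (Ne.symm hj) m3.symm]
    exact s2 j m (Ne.symm hj) m3.symm m2.symm
  rw [c1 i j k 0 hij hik hjk (Ne.symm hj) (Ne.symm hk)]
  exact s2 j k (Ne.symm hj) (Ne.symm hk) hjk

omit hF in
theorem five_codes : ∀ a b c d f : Fin 3,
    (![((1 : ZMod 2), (0 : ZMod 2)), (0, 1), (1, 1)] a + ![((1 : ZMod 2), (0 : ZMod 2)), (0, 1), (1, 1)] b +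
      ![((1 : ZMod 2), (0 : ZMod 2)), (0, 1), (1, 1)] c + ![((1 : ZMod 2), (0 : ZMod 2)), (0, 1), (1, 1)] d +
      ![((1 : ZMod 2), (0 : ZMod 2)), (0, 1), (1, 1)] f = 0) →
    ((a = b ∧ b = c) ∨ (a = b ∧ b = d) ∨ (a = b ∧ b = f) ∨ (a = c ∧ c = d) ∨ (a = c ∧ c = f) ∨
      (a = d ∧ d = f) ∨ (b = c ∧ c = d) ∨ (b = c ∧ c = f) ∨ (b = d ∧ d = f) ∨ (c = d ∧ d = f)) := by
  decide

/-- Orthogonal vectors without zero coordinates have a common neighbour with one. -/
theorem common_tri {w v : V} (hw : ∀ x, w x ≠ 0) (hv : ∀ x, v x ≠ 0) (hwv : h w v = 0) :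
    ∃ i j k : Fin 5, i ≠ j ∧ i ≠ k ∧ j ≠ k ∧ h (tri hF w i j k) v = 0 := by
  set c : Fin 5 → F := fun x => w x * σ (v x) with hc
  have hne : ∀ x, c x ≠ 0 := fun x => mul_ne_zero (hw x) fun e => hv x ((map_eq_zero σ).mp e)
  let code : Fin 3 → ZMod 2 × ZMod 2 := ![(1, 0), (0, 1), (1, 1)]
  let ι : ZMod 2 × ZMod 2 → F := fun p => (if p.1 = 0 then 0 else 1) + (if p.2 = 0 then 0 else omega hF)
  have z2 : ∀ p : ZMod 2, p = 0 ∨ p = 1 := by decide
  have o2 : (1 : ZMod 2) + 1 = 0 := by decide
  have hadd : ∀ p q, ι (p + q) = ι p + ι q := by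
    rintro ⟨p1, p2⟩ ⟨q1, q2⟩
    simp only [ι, Prod.mk_add_mk]
    rcases z2 p1 with rfl | rfl <;> rcases z2 p2 with rfl | rfl <;> rcases z2 q1 with rfl | rfl <;>
      rcases z2 q2 with rfl | rfl <;> simp [o2] <;>
      first
        | ring1
        | linear_combination (0 : F) * two_zero hF
        | linear_combination two_zero hF
        | linear_combination -(two_zero hF)
        | linear_combination omega hF * two_zero hF
        | linear_combination -(omega hF) * two_zero hF
        | linear_combination (omega hF + 1) * two_zero hF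
        | linear_combination -(omega hF + 1) * two_zero hF
  have hinj : ∀ p, ι p = 0 → p = 0 := by
    rintro ⟨p1, p2⟩ hp
    rcases z2 p1 with rfl | rfl <;> rcases z2 p2 with rfl | rfl
    · rfl
    · simp [ι, omega_ne hF] at hp
    · simp [ι] at hp
    · exfalso
      simp [ι] at hp
      exact omega_ne_one hF (by linear_combination hp - two_zero hF)
  have hcode : ∀ x, ∃ a : Fin 3, c x = ι (code a) := by
    intro x
    rcases cube_root hF (hne x) with e | e | e
    · exact ⟨0, by simp [e, ι, code]⟩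
    · exact ⟨1, by simp [e, ι, code]⟩
    · exact ⟨2, by simp [e, ι, code, omega_sq hF, add_comm]⟩
  choose e he using hcode
  have hs : code (e 0) + code (e 1) + code (e 2) + code (e 3) + code (e 4) = 0 := by
    refine hinj _ ?_
    rw [hadd, hadd, hadd, hadd, ← he, ← he, ← he, ← he, ← he]
    have := hwv
    rw [h_apply hF, Fin.sum_univ_five] at this
    exact this
  have key : ∀ i j k, i ≠ j → i ≠ k → j ≠ k → e i = e j → e j = e k →
      ∃ i j k : Fin 5, i ≠ j ∧ i ≠ k ∧ j ≠ k ∧ h (tri hF w i j k) v = 0 := by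
    intro i j k hij hik hjk eij ejk
    refine ⟨i, j, k, hij, hik, hjk, ?_⟩
    rw [tri_h hF hij hik hjk]
    show c i + omega hF * c j + omega hF * omega hF * c k = 0
    rw [he i, he j, he k, eij, ejk]
    linear_combination (ι (code (e k))) * omega_sq hF + (omega hF + 1) * (ι (code (e k))) * two_zero hF
  rcases five_codes _ _ _ _ _ hs with g | g | g | g | g | g | g | g | g | g
  · exact key 0 1 2 (by decide) (by decide) (by decide) g.1 g.2
  · exact key 0 1 3 (by decide) (by decide) (by decide) g.1 g.2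
  · exact key 0 1 4 (by decide) (by decide) (by decide) g.1 g.2
  · exact key 0 2 3 (by decide) (by decide) (by decide) g.1 g.2
  · exact key 0 2 4 (by decide) (by decide) (by decide) g.1 g.2
  · exact key 0 3 4 (by decide) (by decide) (by decide) g.1 g.2
  · exact key 1 2 3 (by decide) (by decide) (by decide) g.1 g.2
  · exact key 1 2 4 (by decide) (by decide) (by decide) g.1 g.2
  · exact key 1 3 4 (by decide) (by decide) (by decide) g.1 g.2
  · exact key 2 3 4 (by decide) (by decide) (by decide) g.1 g.2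

end CfsgUniqueTT.Unitary.Five
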