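/-
An extension of `SU(5,2)` by an abelian group on which the lifts of the elements attached to unit vectors act
without fixed points splits: the lifts can be chosen along the orthogonality graph, and their stabiliser is a
complement.
-/
import Cfsg.Agent.Lib.ThreeTrans.UnitaryFive.Graph

set_option autoImplicit false
set_option linter.unusedSectionVars false

namespace CfsgUniqueTT.Unitary.Five

open Matrix CfsgLib CfsgLib.UnitaryTransvection CfsgLib.UnitarySimple

variable {F : Type*} [Field F] [Fintype F] [DecidableEq F] (hF : Fintype.card F = 2 ^ 2)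
  {G : Type*} [Group G] [Finite G]

local notation "h" => Cfsg.hermForm 5 F 2
local notation "σ" => frob hF
local notation "V" => (Fin 5 → F)

theorem exists_complement (φ : G →* Cfsg.SU 5 F 2) (hφ : Function.Surjective φ)
    (hab : ∀ a b, φ a = 1 → φ b = 1 → Commute a b)
    (hfix : ∀ w : V, h w w = 1 → ∀ x u, φ x = Z hF w → φ u = 1 → Commute x u → u = 1) :
    ∃ K : Subgroup G, φ.ker.IsComplement' K := by
  classical
  -- lifts of an element attached to a unit vector are conjugate under the kernel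
  have conjlift : ∀ w : V, h w w = 1 → ∀ a a', φ a = Z hF w → φ a' = φ a → ∃ v, φ v = 1 ∧ v * a * v⁻¹ = a' := by
    intro w hw a a' ha ha'
    let f : φ.ker → φ.ker := fun v => ⟨v.1 * a * v.1⁻¹ * a⁻¹, by
      have := MonoidHom.mem_ker.mp v.2
      simp [MonoidHom.mem_ker, this]⟩
    have hf : Function.Injective f := by
      intro v v' e
      have e1 : v.1 * a * v.1⁻¹ = v'.1 * a * v'.1⁻¹ := mul_right_cancel (congrArg Subtype.val e)
      have hm : φ (v'.1⁻¹ * v.1) = 1 := by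
        rw [map_mul, map_inv, MonoidHom.mem_ker.mp v.2, MonoidHom.mem_ker.mp v'.2, inv_one, one_mul]
      have hc : Commute a (v'.1⁻¹ * v.1) := by
        show a * (v'.1⁻¹ * v.1) = v'.1⁻¹ * v.1 * a
        calc a * (v'.1⁻¹ * v.1) = v'.1⁻¹ * (v'.1 * a * v'.1⁻¹) * v.1 := by group
          _ = v'.1⁻¹ * (v.1 * a * v.1⁻¹) * v.1 := by rw [e1]
          _ = v'.1⁻¹ * v.1 * a := by group
      have := hfix w hw a _ ha hm hc
      exact Subtype.ext (by rwa [inv_mul_eq_one, eq_comm] at this)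
    obtain ⟨v, hv⟩ := (Finite.injective_iff_surjective.mp hf) ⟨a' * a⁻¹, by simp [MonoidHom.mem_ker, ha']⟩
    exact ⟨v.1, v.2, mul_right_cancel (congrArg Subtype.val hv)⟩
  have uniq : ∀ w : V, h w w = 1 → ∀ a g g', φ a = Z hF w → φ g = φ g' → g * a * g⁻¹ = g' * a * g'⁻¹ → g = g' := by
    intro w hw a g g' ha hg e
    have hm : φ (g'⁻¹ * g) = 1 := by rw [map_mul, map_inv, hg, inv_mul_cancel]
    have hc : Commute a (g'⁻¹ * g) := by
      show a * (g'⁻¹ * g) = g'⁻¹ * g * a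
      calc a * (g'⁻¹ * g) = g'⁻¹ * (g' * a * g'⁻¹) * g := by group
        _ = g'⁻¹ * (g * a * g⁻¹) * g := by rw [e]
        _ = g'⁻¹ * g * a := by group
    have := hfix w hw a _ ha hm hc
    rwa [inv_mul_eq_one, eq_comm] at this
  have conjc : ∀ {a g : G}, Commute g a → g * a * g⁻¹ = a := fun c => by rw [c.eq, mul_inv_cancel_right]
  have exist : ∀ w w' : V, h w w = 1 → h w' w' = 1 → ∀ a a', φ a = Z hF w → φ a' = Z hF w' →
      ∀ k, k * Z hF w * k⁻¹ = Z hF w' → ∃ g, φ g = k ∧ g * a * g⁻¹ = a' := by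
    intro w w' hw hw' a a' ha ha' k hk
    obtain ⟨g₀, rfl⟩ := hφ k
    have e1 : φ (g₀ * a * g₀⁻¹) = Z hF w' := by rw [map_mul, map_mul, map_inv, ha, hk]
    obtain ⟨v, hv, hv'⟩ := conjlift w' hw' _ a' e1 (by rw [e1, ha'])
    refine ⟨v * g₀, by rw [map_mul, hv, one_mul], ?_⟩
    rw [← hv']; group
  have comm : ∀ w : V, h w w = 1 → ∀ a y y', φ a = Z hF w → Commute y a → Commute y' a →
      Commute (φ y) (φ y') → Commute y y' := by
    intro w hw a y y' ha hy hy' hc
    refine uniq w hw a (y * y') (y' * y) ha (by rw [map_mul, map_mul, hc.eq]) ?_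
    rw [conjc (hy.mul_left hy'), conjc (hy'.mul_left hy)]
  -- the lifts over the basis
  let e : Fin 5 → V := fun i => Pi.single i 1
  have hee : ∀ i j, h (e i) (e j) = if i = j then 1 else 0 := fun i j => by
    simp only [e, UnitaryOrder.herm_single_right hF, Pi.single_apply]
    simp [eq_comm]
  have hei : ∀ i, h (e i) (e i) = 1 := fun i => by rw [hee, if_pos rfl]
  have hwe : ∀ (w : V) i, h w (e i) = w i := fun w i => UnitaryOrder.herm_single_right hF w i
  have conjZ : ∀ a b : V, h a a = 1 → h b b = 1 → h a b = 0 → Z hF a * Z hF b * (Z hF a)⁻¹ = Z hF b :=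
    fun a b ha hb hab => by rw [(Z_commute hF ha hb hab).eq, mul_inv_cancel_right]
  obtain ⟨x₀, hx₀⟩ := hφ (Z hF (e 0))
  have hξ : ∀ i, ∃ y, φ y = Z hF (e i) ∧ Commute y x₀ := by
    intro i
    by_cases hi : i = 0
    · exact ⟨x₀, by rw [hi]; exact hx₀, Commute.refl _⟩
    obtain ⟨g, hg, hg'⟩ := exist (e 0) (e 0) (hei 0) (hei 0) x₀ x₀ hx₀ hx₀ (Z hF (e i))
      (conjZ _ _ (hei i) (hei 0) (by rw [hee, if_neg hi]))
    exact ⟨g, hg, mul_inv_eq_iff_eq_mul.mp hg'⟩
  choose ξ hξφ hξ0 using hξ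
  have hξc : ∀ i j, Commute (ξ i) (ξ j) := by
    intro i j
    by_cases hij : i = j
    · rw [hij]
    refine comm (e 0) (hei 0) x₀ _ _ hx₀ (hξ0 i) (hξ0 j) ?_
    rw [hξφ, hξφ]
    exact Z_commute hF (hei i) (hei j) (by rw [hee, if_neg hij])
  -- vectors with a zero coordinate
  have hlow : ∀ w : V, ∃ y, h w w = 1 → (∃ i, w i = 0) → φ y = Z hF w ∧ ∀ i, w i = 0 → Commute y (ξ i) := by
    intro w
    by_cases hw : h w w = 1 ∧ ∃ i, w i = 0
    swap
    · exact ⟨1, fun a b => absurd ⟨a, b⟩ hw⟩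
    obtain ⟨hw, i, hi⟩ := hw
    obtain ⟨g, hg, hg'⟩ := exist (e i) (e i) (hei i) (hei i) (ξ i) (ξ i) (hξφ i) (hξφ i) (Z hF w)
      (conjZ _ _ hw (hei i) (by rw [hwe, hi]))
    refine ⟨g, fun _ _ => ⟨hg, fun j hj => ?_⟩⟩
    refine comm (e i) (hei i) (ξ i) _ _ (hξφ i) (mul_inv_eq_iff_eq_mul.mp hg') (hξc j i) ?_
    rw [hg, hξφ]
    exact Z_commute hF hw (hei j) (by rw [hwe, hj])
  choose L hL using hlow
  have hLc : ∀ u v : V, h u u = 1 → h v v = 1 → h u v = 0 → (∃ i, u i = 0) → (∃ i, v i = 0) →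
      Commute (L u) (L v) := by
    intro u v hu hv huv hu0 hv0
    obtain ⟨i, hi, hi'⟩ := common_zero hF hu hv huv hu0 hv0
    refine comm (e i) (hei i) (ξ i) _ _ (hξφ i) ((hL u hu hu0).2 i hi) ((hL v hv hv0).2 i hi') ?_
    rw [(hL u hu hu0).1, (hL v hv hv0).1]
    exact Z_commute hF hu hv huv
  have hLs : ∀ (u : V) (c : F), c ≠ 0 → h u u = 1 → (∃ i, u i = 0) → L (c • u) = L u := by
    intro u c hc hu hu0
    obtain ⟨i, hi⟩ := hu0
    have hcu : h (c • u) (c • u) = 1 := by rw [h_smul_left, h_smul_right hF, hu, mul_one, norm_one hF hc]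
    have hcu0 : (c • u) i = 0 := by rw [Pi.smul_apply, hi, smul_zero]
    refine uniq (e i) (hei i) (ξ i) _ _ (hξφ i) ?_ ?_
    · rw [(hL _ hcu ⟨i, hcu0⟩).1, (hL u hu ⟨i, hi⟩).1, Z_smul hF hu hc]
    · rw [conjc ((hL _ hcu ⟨i, hcu0⟩).2 i hcu0), conjc ((hL u hu ⟨i, hi⟩).2 i hi)]
  -- vectors without
  have hhigh : ∀ w : V, ∃ y, h w w = 1 → (∀ i, w i ≠ 0) →
      φ y = Z hF w ∧ ∀ u, h u u = 1 → (∃ i, u i = 0) → h u w = 0 → Commute y (L u) := by
    intro w
    by_cases hw : h w w = 1 ∧ ∀ i, w i ≠ 0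
    swap
    · exact ⟨1, fun a b => absurd ⟨a, b⟩ hw⟩
    obtain ⟨hw, hw0⟩ := hw
    let T : Fin 5 → Fin 5 → Fin 5 → V := fun i j k => tri hF w i j k
    have hT : ∀ i j k, i ≠ j → i ≠ k → j ≠ k →
        h (T i j k) (T i j k) = 1 ∧ (∃ x, T i j k x = 0) ∧ φ (L (T i j k)) = Z hF (T i j k) := fun i j k a b c =>
      ⟨tri_unit hF hw0 a b c, tri_zero hF i j k, (hL _ (tri_unit hF hw0 a b c) (tri_zero hF i j k)).1⟩
    have hY : ∀ i j k, ∃ y, i ≠ j → i ≠ k → j ≠ k → φ y = Z hF w ∧ Commute y (L (T i j k)) := by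
      intro i j k
      by_cases hd : i ≠ j ∧ i ≠ k ∧ j ≠ k
      swap
      · exact ⟨1, fun a b c => absurd ⟨a, b, c⟩ hd⟩
      obtain ⟨a, b, c⟩ := hd
      obtain ⟨g, hg, hg'⟩ := exist _ _ (hT i j k a b c).1 (hT i j k a b c).1 _ _ (hT i j k a b c).2.2
        (hT i j k a b c).2.2 (Z hF w)
        (conjZ _ _ hw (hT i j k a b c).1 (by
          show h w (tri hF w i j k) = 0
          rw [← h_swap hF, tri_perp hF hw0 a b c, map_zero]))
      exact ⟨g, fun _ _ _ => ⟨hg, mul_inv_eq_iff_eq_mul.mp hg'⟩⟩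
    choose Y hY using hY
    have step : ∀ i j k i' j' k', i ≠ j → i ≠ k → j ≠ k → i' ≠ j' → i' ≠ k' → j' ≠ k' →
        h (T i j k) (T i' j' k') = 0 → Y i j k = Y i' j' k' := by
      intro i j k i' j' k' a b c a' b' c' hh
      obtain ⟨hu, hu0, huφ⟩ := hT i j k a b c
      obtain ⟨hv, hv0, hvφ⟩ := hT i' j' k' a' b' c'
      obtain ⟨y1, y2⟩ := hY i j k a b c
      obtain ⟨z1, z2⟩ := hY i' j' k' a' b' c'
      have hcm : Commute (Y i j k) (L (T i' j' k')) := by
        refine comm _ hu (L (T i j k)) _ _ huφ y2 (hLc _ _ hu hv hh hu0 hv0).symm ?_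
        rw [y1, hvφ]
        refine Z_commute hF hw hv ?_
        show h w (tri hF w i' j' k') = 0
        rw [← h_swap hF, tri_perp hF hw0 a' b' c', map_zero]
      refine uniq _ hv (L (T i' j' k')) _ _ hvφ (by rw [y1, z1]) ?_
      rw [conjc hcm, conjc z2]
    have hconst : ∀ i j k, i ≠ j → i ≠ k → j ≠ k → Y i j k = Y 0 1 2 := fun i j k a b c =>
      triples_connected Y (fun i j k m a b c d e f =>
        ⟨step i j k m j k a b c e f c (tri_adj hF hw0 a b c d e f).1,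
          step i j k i m k a b c d.symm b f (tri_adj hF hw0 a b c d e f).2.1,
          step i j k i j m a b c a d.symm e.symm (tri_adj hF hw0 a b c d e f).2.2⟩) a b c
    refine ⟨Y 0 1 2, fun _ _ => ⟨(hY 0 1 2 (by decide) (by decide) (by decide)).1, fun u hu hu0 huw => ?_⟩⟩
    obtain ⟨i, j, k, a, b, c, l, hl, rfl⟩ := low_neighbour hF hw0 hu huw hu0
    rw [hLs _ l hl (hT i j k a b c).1 (hT i j k a b c).2.1, ← hconst i j k a b c]
    exact (hY i j k a b c).2
  choose H hH using hhigh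
  let X : V → G := fun w => if ∃ i, w i = 0 then L w else H w
  have hXφ : ∀ w, h w w = 1 → φ (X w) = Z hF w := by
    intro w hw
    by_cases h0 : ∃ i, w i = 0
    · simp only [X, if_pos h0]; exact (hL w hw h0).1
    · simp only [X, if_neg h0]; exact (hH w hw (fun i hi => h0 ⟨i, hi⟩)).1
  have hlh : ∀ u v, h u u = 1 → h v v = 1 → h u v = 0 → (∃ i, u i = 0) → Commute (L u) (X v) := by
    intro u v hu hv huv hu0
    by_cases hv0 : ∃ i, v i = 0
    · simp only [X, if_pos hv0]; exact hLc u v hu hv huv hu0 hv0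
    · simp only [X, if_neg hv0]; exact ((hH v hv (fun i hi => hv0 ⟨i, hi⟩)).2 u hu hu0 huv).symm
  have hXc : ∀ u v, h u u = 1 → h v v = 1 → h u v = 0 → Commute (X u) (X v) := by
    intro u v hu hv huv
    have hvu : h v u = 0 := by rw [← h_swap hF u v, huv, map_zero]
    by_cases hu0 : ∃ i, u i = 0
    · simp only [X, if_pos hu0]; exact hlh u v hu hv huv hu0
    by_cases hv0 : ∃ i, v i = 0
    · have := hlh v u hv hu hvu hv0
      simp only [X, if_neg hu0, if_pos hv0] at this ⊢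
      exact this.symm
    push Not at hu0 hv0
    obtain ⟨i, j, k, a, b, c, ht⟩ := common_tri hF hu0 hv0 huv
    have htu := tri_unit hF hu0 a b c
    have ht0 := tri_zero hF (w := u) i j k
    refine comm _ htu (L (tri hF u i j k)) _ _ (hL _ htu ht0).1 (hlh _ u htu hu (tri_perp hF hu0 a b c) ht0).symm
      (hlh _ v htu hv ht ht0).symm ?_
    rw [hXφ u hu, hXφ v hv]
    exact Z_commute hF hu hv huv
  -- the stabiliser of the lifts
  let K : Subgroup G :=
    { carrier := {g | ∀ w, h w w = 1 → g * X w * g⁻¹ = X (mat (φ g) *ᵥ w)}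
      one_mem' := fun w _ => by simp [mat_one]
      mul_mem' := fun {a b} ha hb w hw => by
        rw [map_mul, mat_mul, ← mulVec_mulVec, ← ha _ (by rw [su_h, hw]), ← hb w hw]
        group
      inv_mem' := fun {a} ha w hw => by
        have h1 := ha (mat (φ a)⁻¹ *ᵥ w) (by rw [su_h, hw])
        rw [mat_inv_mulVec] at h1
        rw [map_inv, ← h1]
        group }
  have hdisj : ∀ g ∈ K, φ g = 1 → g = 1 := by
    intro g hg hg1
    have h1 := hg (e 0) (hei 0)
    rw [hg1, mat_one, one_mulVec] at h1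
    exact hfix (e 0) (hei 0) (X (e 0)) g (hXφ _ (hei 0)) hg1 (mul_inv_eq_iff_eq_mul.mp h1).symm
  have hsurj : ∀ k, ∃ g ∈ K, φ g = k := by
    intro k
    have hke : ∀ w, h w w = 1 → h (mat k *ᵥ w) (mat k *ᵥ w) = 1 := fun w hw => by rw [su_h, hw]
    obtain ⟨g, hg, hg'⟩ := exist (e 0) (mat k *ᵥ e 0) (hei 0) (hke _ (hei 0)) (X (e 0)) (X (mat k *ᵥ e 0))
      (hXφ _ (hei 0)) (hXφ _ (hke _ (hei 0))) k (Z_conj hF k (hei 0))
    refine ⟨g, ?_, hg⟩
    have prop : ∀ u v, h u u = 1 → h v v = 1 → h u v = 0 →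
        g * X u * g⁻¹ = X (mat k *ᵥ u) → g * X v * g⁻¹ = X (mat k *ᵥ v) := by
      intro u v hu hv huv hP
      have c1 : Commute (g * X v * g⁻¹) (X (mat k *ᵥ u)) := by
        rw [← hP]
        exact (hXc u v hu hv huv).symm.map (MulAut.conj g).toMonoidHom
      have c2 : Commute (X (mat k *ᵥ v)) (X (mat k *ᵥ u)) :=
        (hXc _ _ (hke u hu) (hke v hv) (by rw [su_h, huv])).symm
      refine uniq _ (hke u hu) _ _ _ (hXφ _ (hke u hu)) ?_ (by rw [conjc c1, conjc c2])
      rw [map_mul, map_mul, map_inv, hg, hXφ v hv, hXφ _ (hke v hv), Z_conj hF k hv]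
    have Pe : ∀ i, g * X (e i) * g⁻¹ = X (mat k *ᵥ e i) := by
      intro i
      by_cases hi : 0 = i
      · rw [← hi]; exact hg'
      · exact prop _ _ (hei 0) (hei i) (by rw [hee, if_neg hi]) hg'
    have Pl : ∀ w, h w w = 1 → (∃ i, w i = 0) → g * X w * g⁻¹ = X (mat k *ᵥ w) := by
      rintro w hw ⟨i, hi⟩
      exact prop (e i) w (hei i) hw (by rw [← h_swap hF, hwe, hi, map_zero]) (Pe i)
    intro w hw
    rw [hg]
    by_cases hw0 : ∃ i, w i = 0
    · exact Pl w hw hw0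
    push Not at hw0
    exact prop _ w (tri_unit hF hw0 (i := 0) (j := 1) (k := 2) (by decide) (by decide) (by decide)) hw
      (tri_perp hF hw0 (by decide) (by decide) (by decide))
      (Pl _ (tri_unit hF hw0 (by decide) (by decide) (by decide)) (tri_zero hF 0 1 2))
  refine ⟨K, Subgroup.isComplement'_of_disjoint_and_mul_eq_univ ?_ ?_⟩
  · rw [Subgroup.disjoint_def]
    intro g hg hgK
    exact hdisj g hgK hg
  · refine Set.eq_univ_of_forall fun g => ?_
    obtain ⟨g₁, hg₁, hg₁'⟩ := hsurj (φ g)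
    exact ⟨g * g₁⁻¹, by simp [hg₁'], g₁, hg₁, by simp⟩

end CfsgUniqueTT.Unitary.Five
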