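/-
3-transposition groups over `SU(5,2)`: the 2-radical is elementary abelian and has a complement.
-/
import Cfsg.Agent.Lib.ThreeTrans.UnitaryTop
import Cfsg.Agent.Lib.ThreeTrans.UnitaryFive.Fixed
import Cfsg.Agent.Lib.ThreeTrans.UnitaryFive.Split

set_option autoImplicit false

namespace CfsgUniqueTT.Unitary.Five

open Cfsg Matrix CfsgLib CfsgLib.UnitaryTransvection CfsgLib.UnitarySimple

variable {G : Type*} [Group G] [Finite G] {F : Type} [Field F] [Fintype F]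

theorem elementary_split (hF : Fintype.card F = 2 ^ 2) {D : Set G} (hD : Cfsg.IsThreeTranspositionClass D)
    (hZ : Subgroup.center G = ⊥) (e : G ⧸ Cfsg.pCore 2 G ≃* ↥(Cfsg.SU 5 F 2)) :
    Cfsg.IsElementaryAbelian 2 (Cfsg.pCore 2 G) ∧ ∃ K : Subgroup G, (Cfsg.pCore 2 G).IsComplement' K := by
  classical
  have hV := elementary_top hF (le_refl 5) (by norm_num) hD hZ e
  refine ⟨hV, ?_⟩
  let φ : G →* ↥(Cfsg.SU 5 F 2) := e.toMonoidHom.comp (QuotientGroup.mk' (Cfsg.pCore 2 G))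
  have hφ : Function.Surjective φ := e.surjective.comp (QuotientGroup.mk'_surjective _)
  have hker : φ.ker = Cfsg.pCore 2 G := by ext x; simp [φ]
  rw [← hker] at hV ⊢
  obtain ⟨hS, ⟨d₀, hd₀, hDc⟩, hgen⟩ := id hD
  obtain ⟨w, hw, -, -⟩ := five hF (le_refl 5)
  have htu : tu hF (w 0) ≠ 1 := fun h1 => by
    obtain ⟨y, hy⟩ := exists_dual hF (hw 0).1
    have := congrArg (fun g => mat g *ᵥ y) h1
    simp [tu_mulVec hF (hw 0).2, hy, mat_one] at this
    exact (hw 0).1 this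
  have hne1 : ∀ d ∈ D, φ d ≠ 1 := fun d hd h1 => by
    apply htu
    obtain ⟨x, hx⟩ := hφ (tu hF (w 0))
    have hle : Subgroup.closure D ≤ φ.ker := (Subgroup.closure_le _).mpr fun e' he' => by
      rw [hDc] at hd he'
      obtain ⟨g, hg⟩ := isConj_iff.mp ((show IsConj d₀ d from hd).symm.trans (show IsConj d₀ e' from he'))
      rw [SetLike.mem_coe, MonoidHom.mem_ker, ← hg, map_mul, map_mul, h1, mul_one, ← map_mul, mul_inv_cancel, map_one]
    rw [hgen] at hle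
    rw [← hx]
    exact hle (Subgroup.mem_top x)
  have hS' : Cfsg.IsThreeTranspositionSet (φ '' D) := by
    refine ⟨?_, ?_⟩
    · rintro _ ⟨d, hd, rfl⟩
      refine orderOf_eq_prime ?_ (hne1 d hd)
      rw [← map_pow, pow_two, CfsgThreeTrans.mul_self hS hd, map_one]
    · rintro _ ⟨d, hd, rfl⟩ _ ⟨d', hd', rfl⟩
      rcases hS.2 d hd d' hd' with h | h
      · exact Or.inl (by rw [← map_mul, ← map_pow, h, map_one])
      · exact Or.inr (by rw [← map_mul, ← map_pow, h, map_one])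
  have hSc : ∀ g, ∀ a ∈ φ '' D, g * a * g⁻¹ ∈ φ '' D := by
    rintro g _ ⟨d, hd, rfl⟩
    obtain ⟨x, rfl⟩ := hφ g
    refine ⟨x * d * x⁻¹, ?_, by simp⟩
    rw [hDc] at hd ⊢
    exact (show IsConj d₀ d from hd).trans (isConj_iff.mpr ⟨x, rfl⟩)
  have hmem := class_eq hF (le_refl 5) hS' hSc ⟨_, d₀, hd₀, rfl⟩
  refine exists_complement hF φ hφ (fun a b ha hb =>
    congrArg Subtype.val (hV.1.is_comm.comm ⟨a, ha⟩ ⟨b, hb⟩)) fun v hv x u hx hu hxu =>
      fixed_eq_one hF hD hZ φ hφ hV hmem hv hx hu hxu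

end CfsgUniqueTT.Unitary.Five
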